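import Cfsg.Agent.Golay.Base
/-!
Invariance of the rank-24 lattice under coordinate permutations of the code group and sign changes on codewords.
-/
set_option autoImplicit false
open Cfsg
namespace Cfsg.Agent.H8
open Cfsg.Agent.Golay
open scoped Pointwise

theorem four_dvd_card {s : Finset GolayPt} (hs : s ∈ supports (golayCode : Set (GolayPt → ZMod 2))) :
    4 ∣ s.card := by
  have h := forall_supports (p := fun m => decide (pop m % 4 = 0)) (by decide +kernel) hs
  rw [card_eq_pop]
  exact Nat.dvd_of_mod_eq_zero (by simpa using h)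

theorem even_card_inter {s t : Finset GolayPt} (hs : s ∈ supports (golayCode : Set (GolayPt → ZMod 2)))
    (ht : t ∈ supports (golayCode : Set (GolayPt → ZMod 2))) : Even (s ∩ t).card := by
  have h1 := four_dvd_card hs
  have h2 := four_dvd_card ht
  have h3 := four_dvd_card (symmDiff_mem_supports hs ht)
  have h4 : (symmDiff s t).card + 2 * (s ∩ t).card = s.card + t.card := by
    have e1 : (symmDiff s t).card = (s \ t).card + (t \ s).card := by
      rw [symmDiff_def, Finset.sup_eq_union]
      exact Finset.card_union_of_disjoint (disjoint_sdiff_sdiff)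
    have e2 := Finset.card_sdiff_add_card_inter s t
    have e3 := Finset.card_sdiff_add_card_inter t s
    rw [Finset.inter_comm t s] at e3
    omega
  rw [Nat.even_iff]
  omega

theorem closure_map_le {f : (GolayPt → ℤ) →+ (GolayPt → ℤ)} (h : ∀ x ∈ leechSet, f x ∈ leechSet)
    {x : GolayPt → ℤ} (hx : x ∈ leechLattice) : f x ∈ leechLattice := by
  have : leechLattice ≤ leechLattice.comap f := by
    unfold leechLattice
    rw [AddSubgroup.closure_le]
    intro y hy
    exact AddSubgroup.subset_closure (h y hy)
  exact this hx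

/-- The permutation action on supports. -/
theorem preimage_mem_supports {σ : Equiv.Perm GolayPt} (hσ : σ ∈ M24) (p q : GolayPt → Prop)
    [DecidablePred p] [DecidablePred q] (hpq : ∀ i, q i ↔ p (σ i))
    (h : (Finset.univ.filter p) ∈ supports (golayCode : Set (GolayPt → ZMod 2))) :
    (Finset.univ.filter q) ∈ supports (golayCode : Set (GolayPt → ZMod 2)) := by
  have hσ' : σ⁻¹ ∈ M24 := M24.inv_mem hσ
  have h1 : σ⁻¹ • (supports (golayCode : Set (GolayPt → ZMod 2))) = supports (golayCode : Set (GolayPt → ZMod 2)) := hσ'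
  rw [← h1]
  rw [Set.mem_smul_set]
  refine ⟨_, h, ?_⟩
  ext i
  rw [Finset.mem_smul_finset]
  constructor
  · rintro ⟨j, hj, rfl⟩
    rw [Finset.mem_filter] at hj ⊢
    refine ⟨Finset.mem_univ _, ?_⟩
    rw [hpq]
    simpa using hj.2
  · intro hi
    rw [Finset.mem_filter] at hi
    refine ⟨σ i, ?_, by simp⟩
    rw [Finset.mem_filter]
    exact ⟨Finset.mem_univ _, (hpq i).1 hi.2⟩

theorem leech_perm (σ : Equiv.Perm GolayPt) (hσ : σ ∈ M24) (x : GolayPt → ℤ) (hx : x ∈ leechLattice) :
    (fun i => x (σ i)) ∈ leechLattice := by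
  let f : (GolayPt → ℤ) →+ (GolayPt → ℤ) :=
    { toFun := fun x i => x (σ i), map_zero' := rfl, map_add' := fun _ _ => rfl }
  refine closure_map_le (f := f) ?_ hx
  rintro x ⟨m, h1, h2, h3⟩
  refine ⟨m, fun i => h1 (σ i), ?_, fun k => ?_⟩
  · have : ∑ i, f x i = ∑ i, x i := Equiv.sum_comp σ x
    rw [this]; exact h2
  · exact preimage_mem_supports hσ (fun i => x i ≡ k [ZMOD 4]) _ (fun i => Iff.rfl) (h3 k)

theorem leech_sign (c : Finset GolayPt) (hc : c ∈ supports (golayCode : Set (GolayPt → ZMod 2)))
    (x : GolayPt → ℤ) (hx : x ∈ leechLattice) : (fun i => if i ∈ c then -x i else x i) ∈ leechLattice := by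
  let f : (GolayPt → ℤ) →+ (GolayPt → ℤ) :=
    { toFun := fun x i => if i ∈ c then -x i else x i
      map_zero' := by ext i; simp
      map_add' := fun a b => by ext i; by_cases h : i ∈ c <;> simp [h]; ring }
  refine closure_map_le (f := f) ?_ hx
  rintro x ⟨m, h1, h2, h3⟩
  have hpar : ∀ i, f x i ≡ m [ZMOD 2] := by
    intro i
    show (if i ∈ c then -x i else x i) ≡ m [ZMOD 2]
    have := h1 i
    unfold Int.ModEq at this ⊢
    split_ifs
    · omega
    · exact this
  have hsum : ∑ i, f x i = ∑ i, x i - 2 * ∑ i ∈ c, x i := by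
    have e1 : ∑ i, f x i = ∑ i, (x i - 2 * (if i ∈ c then x i else 0)) := by
      apply Finset.sum_congr rfl
      intro i _
      show (if i ∈ c then -x i else x i) = _
      split_ifs <;> ring
    rw [e1, Finset.sum_sub_distrib, ← Finset.mul_sum]
    congr 2
    rw [← Finset.sum_filter]
    congr 1
    ext i; simp
  -- the sum over c is divisible by 4
  have key : (4 : ℤ) ∣ ∑ i ∈ c, x i := by
    rcases Int.even_or_odd m with hm | hm
    · -- all x i even; x i ≡ 2 [x i ≡ 2 mod 4]
      have e2 : ∀ i, (4 : ℤ) ∣ x i - 2 * (if x i ≡ 2 [ZMOD 4] then 1 else 0) := by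
        intro i
        have := h1 i
        obtain ⟨k, hk⟩ := hm
        unfold Int.ModEq at this ⊢
        split_ifs <;> omega
      have e3 : (4 : ℤ) ∣ ∑ i ∈ c, (x i - 2 * (if x i ≡ 2 [ZMOD 4] then 1 else 0)) :=
        Finset.dvd_sum fun i _ => e2 i
      rw [Finset.sum_sub_distrib, ← Finset.mul_sum, ← Finset.sum_filter, Finset.sum_const, nsmul_eq_mul, mul_one] at e3
      have e4 : (c.filter fun i => x i ≡ 2 [ZMOD 4]) = c ∩ Finset.univ.filter fun i => x i ≡ 2 [ZMOD 4] := by
        ext i; simp
      have e5 := even_card_inter hc (h3 2)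
      rw [← e4] at e5
      obtain ⟨k, hk⟩ := e5
      rw [hk] at e3
      push_cast at e3
      omega
    · have e2 : ∀ i, (4 : ℤ) ∣ x i - 1 - 2 * (if x i ≡ 3 [ZMOD 4] then 1 else 0) := by
        intro i
        have := h1 i
        obtain ⟨k, hk⟩ := hm
        unfold Int.ModEq at this ⊢
        split_ifs <;> omega
      have e3 : (4 : ℤ) ∣ ∑ i ∈ c, (x i - 1 - 2 * (if x i ≡ 3 [ZMOD 4] then 1 else 0)) :=
        Finset.dvd_sum fun i _ => e2 i
      rw [Finset.sum_sub_distrib, Finset.sum_sub_distrib, ← Finset.mul_sum, ← Finset.sum_filter,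
        Finset.sum_const, Finset.sum_const, nsmul_eq_mul, nsmul_eq_mul, mul_one, mul_one] at e3
      have e4 : (c.filter fun i => x i ≡ 3 [ZMOD 4]) = c ∩ Finset.univ.filter fun i => x i ≡ 3 [ZMOD 4] := by
        ext i; simp
      have e5 := even_card_inter hc (h3 3)
      have e6 := four_dvd_card hc
      rw [← e4] at e5
      obtain ⟨k, hk⟩ := e5
      obtain ⟨l, hl⟩ := e6
      rw [hk, hl] at e3
      push_cast at e3
      omega
  refine ⟨m, hpar, ?_, fun k => ?_⟩
  · rw [hsum]
    unfold Int.ModEq at h2 ⊢
    obtain ⟨l, hl⟩ := key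
    rw [hl]
    omega
  · rcases Int.even_or_odd m with hm | hm
    · have : (Finset.univ.filter fun i => f x i ≡ k [ZMOD 4]) = Finset.univ.filter fun i => x i ≡ k [ZMOD 4] := by
        apply Finset.filter_congr
        intro i _
        show (if i ∈ c then -x i else x i) ≡ k [ZMOD 4] ↔ _
        have := h1 i
        obtain ⟨k, hk⟩ := hm
        unfold Int.ModEq at this ⊢
        split_ifs
        · omega
        · rfl
      rw [this]; exact h3 k
    · rcases Int.even_or_odd k with hk | hk
      · have : (Finset.univ.filter fun i => f x i ≡ k [ZMOD 4]) = ∅ := by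
          apply Finset.filter_eq_empty_iff.2
          intro i _
          have := hpar i
          obtain ⟨a, ha⟩ := hk
          obtain ⟨b, hb⟩ := hm
          unfold Int.ModEq at this ⊢
          omega
        rw [this]; exact empty_mem_supports
      · have : (Finset.univ.filter fun i => f x i ≡ k [ZMOD 4]) =
            symmDiff c (Finset.univ.filter fun i => x i ≡ k [ZMOD 4]) := by
          ext i
          rw [Finset.mem_symmDiff]
          simp only [Finset.mem_filter, Finset.mem_univ, true_and]
          show (if i ∈ c then -x i else x i) ≡ k [ZMOD 4] ↔ _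
          have := h1 i
          obtain ⟨a, ha⟩ := hk
          obtain ⟨b, hb⟩ := hm
          unfold Int.ModEq at this ⊢
          by_cases hi : i ∈ c
          · simp only [hi, if_true, true_and, not_true, and_false, or_false]
            omega
          · simp only [hi, if_false, false_and, not_false_eq_true, and_true, false_or]
        rw [this]; exact symmDiff_mem_supports hc (h3 k)

end Cfsg.Agent.H8
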